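import Cfsg.Agent.R2.T1.N7.PB.Iso
import Cfsg.Agent.H952.F4.Scott
import Cfsg.Agent.H952.F4.TabLin
import Cfsg.Agent.H525.AltK

/-!
# S5929, `n = 7`, `p = 3`, lift, pattern B: classes and the fixed space of `L₂(7)` (helper7)

* `cls2`, `cls5`, `cls7` : the elements of order 2, 5, 7;
* `fx_ge` : Scott's lemma for the Hurwitz triple of `L₂(7)`.
-/

set_option autoImplicit false
set_option maxRecDepth 100000

namespace Cfsg.Agent.R2.T1.N7.PB

open Module Equiv Equiv.Perm
open Cfsg.Agent.H952.F4 (ev)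

universe u v

/-- conjugacy in `A₇`, the general case -/
theorem conj7' {r s g : A7} (hct : (r : Perm (Fin 7)).cycleType = (g : Perm (Fin 7)).cycleType)
    {κ : Perm (Fin 7)} (hκ : sign κ = -1) (hc : κ * s = r * κ) : IsConj r g ∨ IsConj s g := by
  obtain ⟨σ, hσ⟩ := isConj_iff.1 (isConj_iff_cycleType_eq.2 hct)
  rcases Int.units_eq_one_or (sign σ) with h3 | h3
  · exact Or.inl (isConj_iff.2 ⟨⟨σ, h3⟩, Subtype.ext hσ⟩)
  · refine Or.inr (isConj_iff.2 ⟨⟨σ * κ, ?_⟩, Subtype.ext ?_⟩)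
    · rw [mem_alternatingGroup, map_mul, h3, hκ]; rfl
    · change σ * κ * (s : Perm (Fin 7)) * (σ * κ)⁻¹ = g
      rw [← hσ]
      calc σ * κ * (s : Perm (Fin 7)) * (σ * κ)⁻¹ = σ * (κ * s) * κ⁻¹ * σ⁻¹ := by group
        _ = σ * (r * κ) * κ⁻¹ * σ⁻¹ := by rw [hc]
        _ = _ := by group

theorem ord7 (t : A7) : orderOf t = (t : Perm (Fin 7)).cycleType.lcm := by
  rw [lcm_cycleType, Subgroup.orderOf_coe]

theorem ty (t : A7) : (orderOf t = 2 → (t : Perm (Fin 7)).cycleType = {2, 2}) ∧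
    (orderOf t = 5 → (t : Perm (Fin 7)).cycleType = {5}) ∧ (orderOf t = 7 → (t : Perm (Fin 7)).cycleType = {7}) := by
  rw [ord7]
  have l0 : ((0 : Multiset ℕ)).lcm = 1 := by decide
  have l3 : (({3} : Multiset ℕ)).lcm = 3 := by decide
  have l5 : (({5} : Multiset ℕ)).lcm = 5 := by decide
  have l7 : (({7} : Multiset ℕ)).lcm = 7 := by decide
  have l2 : (({2, 2} : Multiset ℕ)).lcm = 2 := by decide
  have l33 : (({3, 3} : Multiset ℕ)).lcm = 3 := by decide
  have l4 : (({4, 2} : Multiset ℕ)).lcm = 4 := by decide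
  have l6 : (({3, 2, 2} : Multiset ℕ)).lcm = 6 := by decide
  rcases Cfsg.Agent.H525.AltK.mem_types le_rfl t with h | h | h | h | h | h | h | h <;> rw [h] <;>
    refine ⟨fun h' => ?_, fun h' => ?_, fun h' => ?_⟩ <;> first | rfl | (exfalso; omega)

theorem cls2 {t : A7} (h : orderOf t = 2) : IsConj s2 t := by
  rcases conj7' (r := s2) (s := s2) (κ := swap 1 2) (g := t) (by rw [(ty t).1 h]; decide +kernel) (by decide +kernel)
    (by decide +kernel) with h | h <;> exact h

theorem cls5 {t : A7} (h : orderOf t = 5) : IsConj a7 t := by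
  rcases conj7' (r := a7) (s := a7) (κ := swap 5 6) (g := t) (by rw [(ty t).2.1 h]; decide +kernel) (by decide +kernel)
    (by decide +kernel) with h | h <;> exact h

theorem cls7 {t : A7} (h : orderOf t = 7) : IsConj (s2 * s3) t ∨ IsConj (s2 * s3)⁻¹ t :=
  conj7' (r := s2 * s3) (s := (s2 * s3)⁻¹) (κ := swap 2 3 * swap 6 1 * swap 4 5) (g := t)
    (by rw [(ty t).2.2 h]; decide +kernel) (by decide +kernel) (by decide +kernel)

theorem s3_pow : s3 ^ 3 = 1 := by decide +kernel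

section
variable {F : Type u} [Field F] {W : Type v} [AddCommGroup W] [Module F W]

theorem ev_isConj {G : Type*} [Group G] (ρ : Representation F G W) {x y : G} (h : IsConj x y) :
    ev (ρ y) 1 = ev (ρ x) 1 := by
  obtain ⟨c, rfl⟩ := isConj_iff.1 h
  exact Cfsg.Agent.H952.F4.TabLin.ev_conj ρ c x 1

theorem ev_inv {G : Type*} [Group G] (ρ : Representation F G W) (x : G) : ev (ρ x⁻¹) 1 = ev (ρ x) 1 := by
  have h : ∀ x : G, Module.End.eigenspace (ρ x) 1 ≤ Module.End.eigenspace (ρ x⁻¹) 1 := by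
    intro x v hv
    rw [Module.End.mem_eigenspace_iff, one_smul] at hv ⊢
    calc ρ x⁻¹ v = ρ x⁻¹ (ρ x v) := by rw [hv]
      _ = v := by rw [← Module.End.mul_apply, ← map_mul, inv_mul_cancel, map_one, Module.End.one_apply]
  unfold Cfsg.Agent.H952.F4.ev
  rw [le_antisymm (h x) (by have := h x⁻¹; rwa [inv_inv] at this)]

variable (F W) in
/-- the vectors fixed by `L₂(7)` -/
def FS (ρ : Representation F A7 W) : Submodule F W where
  carrier := {m | Fx ρ m}
  zero_mem' := ⟨map_zero _, map_zero _⟩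
  add_mem' := fun {a b} ha hb => ⟨by rw [map_add, ha.1, hb.1], by rw [map_add, ha.2, hb.2]⟩
  smul_mem' := fun c a ha => ⟨by rw [map_smul, ha.1], by rw [map_smul, ha.2]⟩

variable [FiniteDimensional F W]

/-- **Scott's lemma for the Hurwitz triple of `L₂(7)`** -/
theorem fx_ge (ρ : Representation F A7 W) {B : W →ₗ[F] W →ₗ[F] F} (hB : ∀ x, (∀ y, B x y = 0) → x = 0)
    (hG : ∀ g x y, B (ρ g x) (ρ g y) = B x y) :
    ev (ρ s2) 1 + ev (ρ s3) 1 + ev (ρ (s2 * s3)) 1 ≤ finrank F W + 2 * finrank F ↥(FS F W ρ) := by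
  set S : Subgroup A7 := Subgroup.closure {s2, s3} with hS
  have m2 : s2 ∈ S := Subgroup.subset_closure (by simp)
  have m3 : s3 ∈ S := Subgroup.subset_closure (by simp)
  let x : ↥S := ⟨s2, m2⟩
  let y : ↥S := ⟨s3, m3⟩
  have hgen : Subgroup.closure {x, y} = ⊤ := by
    have h1 : (Subgroup.closure {x, y}).map S.subtype = S := by
      rw [MonoidHom.map_closure, Set.image_pair]
      rfl
    rw [eq_top_iff]
    intro z _
    have h2 : (z : A7) ∈ (Subgroup.closure {x, y}).map S.subtype := by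
      rw [h1]
      exact z.2
    obtain ⟨z', hz', e⟩ := h2
    rwa [← Subtype.ext e]
  have h := Cfsg.Agent.H952.F4.Scott.scott_form (MonoidHom.comp ρ S.subtype : Representation F ↥S W) (x := x) (y := y)
    hgen B hB (fun g v w => hG g v w)
  have h1 : Representation.invariants (MonoidHom.comp ρ S.subtype : Representation F ↥S W) ≤ FS F W ρ := by
    intro v hv
    exact ⟨hv x, hv y⟩
  have h2 := Submodule.finrank_mono h1
  have h3 : ev ((MonoidHom.comp ρ S.subtype : Representation F ↥S W) x) 1 = ev (ρ s2) 1 := rfl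
  have h4 : ev ((MonoidHom.comp ρ S.subtype : Representation F ↥S W) y) 1 = ev (ρ s3) 1 := rfl
  have h5 : ev ((MonoidHom.comp ρ S.subtype : Representation F ↥S W) (x * y)) 1 = ev (ρ (s2 * s3)) 1 := rfl
  rw [h3, h4, h5] at h
  omega

/-- **the contradiction** -/
theorem final (h3 : (3 : F) = 0) {ρ : Representation F A7 W} (h0 : Representation.invariants ρ = ⊥)
    {B : W →ₗ[F] W →ₗ[F] F} (hB : ∀ x, (∀ y, B x y = 0) → x = 0)
    (hG : ∀ g x y, B (ρ g x) (ρ g y) = B x y)
    (hF : 2 ≤ finrank F ↥(FS F W ρ)) : 24 + 24 + ev (ρ a7) 1 ≤ finrank F W := by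
  have hn : Nontrivial ↥(FS F W ρ) := Module.nontrivial_of_finrank_pos (R := F) (by omega)
  obtain ⟨m, hm⟩ := exists_ne (0 : ↥(FS F W ρ))
  obtain ⟨m', hi⟩ := exists_linearIndependent_pair_of_one_lt_finrank (R := F) (M := ↥(FS F W ρ)) (by omega) hm
  refine count h3 h0 hB hG m.2 m'.2 ?_
  intro a b hab
  exact LinearIndependent.pair_iff.1 hi a b (Subtype.ext hab)

end

end Cfsg.Agent.R2.T1.N7.PB
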