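import Cfsg.Agent.H952.F4.Gen

/-!
# S5929, `n = 7`, `p = 3`, lift, pattern B: the action of `A₇` on the 15 cosets of `L₂(7)` (helper7)

`s2`, `s3` generate `L₂(7)`; `tt i` are representatives of its 15 cosets; `fa`, `fb` describe the action of the
generators `a7`, `b7`; `w` spans the `(D₈, λ)`-eigenspace of the permutation module; the translates of `w` span the
zero-sum vectors modulo 3.
-/

set_option autoImplicit false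
set_option maxRecDepth 100000

namespace Cfsg.Agent.R2.T1.N7.PB

open Equiv Equiv.Perm

/-- the alternating group of degree seven -/
abbrev A7 := ↥(alternatingGroup (Fin 7))

section wordd
variable {G : Type*} [Group G]

/-- the letters -/
def lt (x y : G) : Fin 4 → G := ![x, x⁻¹, y, y⁻¹]

/-- evaluation of words -/
def evw (x y : G) : List (Fin 4) → G
  | [] => 1
  | k :: l => lt x y k * evw x y l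

theorem evw_mem {x y : G} {T : Subgroup G} (hx : x ∈ T) (hy : y ∈ T) (l : List (Fin 4)) : evw x y l ∈ T := by
  induction l with
  | nil => exact T.one_mem
  | cons k l ih =>
    refine T.mul_mem ?_ ih
    fin_cases k
    · exact hx
    · exact T.inv_mem hx
    · exact hy
    · exact T.inv_mem hy

end wordd

/-- inverse words -/
def ivw (l : List (Fin 4)) : List (Fin 4) := (l.map ![1, 0, 3, 2]).reverse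

/-- an even permutation of seven points -/
def mk7 (p : Perm (Fin 7)) (h : sign p = 1) : A7 := ⟨p, h⟩

def a7 : A7 := mk7 c[0, 1, 2, 3, 4] (by decide +kernel)
def b7 : A7 := mk7 c[4, 5, 6] (by decide +kernel)
def s2 : A7 := mk7 (c[0, 5] * c[4, 6]) (by decide +kernel)
def s3 : A7 := mk7 (c[0, 2, 4] * c[1, 3, 5]) (by decide +kernel)

/-- the representatives of the 15 cosets -/
def tt : Fin 15 → A7 :=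
  ![1, a7, a7 ^ 2, a7 ^ 3, a7 ^ 4,
    b7, a7 * b7, a7 ^ 2 * b7, a7 ^ 3 * b7, a7 ^ 4 * b7,
    b7 * a7, a7 * (b7 * a7), a7 ^ 2 * (b7 * a7), a7 ^ 3 * (b7 * a7), a7 ^ 4 * (b7 * a7)]

/-- the letters on 15 points -/
def ft : Fin 4 → Fin 15 → Fin 15 :=
  ![![1, 2, 3, 4, 0, 6, 7, 8, 9, 5, 11, 12, 13, 14, 10],
    ![4, 0, 1, 2, 3, 9, 5, 6, 7, 8, 14, 10, 11, 12, 13],
    ![5, 10, 14, 13, 7, 8, 2, 9, 0, 4, 11, 1, 3, 12, 6],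
    ![8, 11, 6, 12, 9, 0, 14, 4, 5, 7, 1, 10, 13, 3, 2]]

/-- words on 15 points -/
def pw (l : List (Fin 4)) (i : Fin 15) : Fin 15 := l.foldr ft i

theorem pw_nil (i : Fin 15) : pw [] i = i := rfl

theorem pw_cons (k : Fin 4) (l : List (Fin 4)) (i : Fin 15) : pw (k :: l) i = ft k (pw l i) := rfl

/-- words in `s2`, `s3` -/
def Wb : Fin 15 → List (Fin 4) :=
  ![[],
    [],
    [0, 2, 0, 2, 0, 3, 0],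
    [0, 3, 0, 2, 0, 3, 0, 3, 0, 3],
    [0, 3, 0, 3, 0, 2, 0, 3, 0],
    [0, 2],
    [2, 0, 3, 0, 3, 0, 2, 0, 2],
    [2, 0, 3, 0, 2, 0, 2, 0],
    [3, 0],
    [0],
    [2, 0, 3, 0, 3, 0, 2, 0, 2],
    [3, 0, 3, 0, 2, 0, 2, 0, 3],
    [0, 2, 0, 2, 0, 3, 0, 3, 0],
    [0, 3, 0, 2, 0, 3, 0, 3],
    [0, 2, 0, 2, 0, 3, 0, 2, 0]]

theorem a_tt : ∀ i, a7 * tt i = tt (ft 0 i) := by decide +kernel

theorem b_tt : ∀ i, b7 * tt i = tt (ft 2 i) * evw s2 s3 (Wb i) := by decide +kernel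

theorem ft_inv : ∀ i, ft 0 (ft 1 i) = i ∧ ft 1 (ft 0 i) = i ∧ ft 2 (ft 3 i) = i ∧ ft 3 (ft 2 i) = i := by decide +kernel

/-- the eigenvector -/
def w : Fin 15 → ℤ := ![1, 0, -1, -1, 1, 0, 0, -1, -1, 0, 0, 0, 1, 0, 1]

/-- the signs -/
def es8 : Fin 8 → ℤ := ![1, -1, 1, -1, 1, -1, 1, -1]

/-- the words of the elements of `D₈` -/
def gw : Fin 8 → List (Fin 4) :=
  ![[],
    [1, 1, 2, 0, 0, 2],
    [0, 2, 1, 3, 1, 3],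
    [1, 3, 1, 1, 3, 0, 3, 0, 2, 0],
    [0, 2, 1, 1, 3, 0, 2, 1, 1, 3],
    [1, 2, 1, 1, 3, 0, 0, 2, 0, 2],
    [2, 0, 2, 0, 3, 1],
    [1, 1, 2, 1, 1, 3, 1, 2, 1, 3]]

theorem e_w : ∀ i j, ((∑ k, if pw (gw k) j = i then es8 k else 0) - w j * w i) % 3 = 0 := by decide +kernel

/-- the words of 14 translates -/
def ws : Fin 14 → List (Fin 4) :=
  ![[],
    [0],
    [1],
    [2],
    [0, 0],
    [0, 2],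
    [1, 1],
    [1, 2],
    [2, 0],
    [2, 1],
    [3, 0],
    [3, 1],
    [0, 0, 2],
    [0, 2, 1]]

/-- the translates of `w` -/
def bas : Fin 14 → Fin 15 → ℤ :=
  ![![1, 0, -1, -1, 1, 0, 0, -1, -1, 0, 0, 0, 1, 0, 1],
    ![1, 1, 0, -1, -1, 0, 0, 0, -1, -1, 1, 0, 0, 1, 0],
    ![0, -1, -1, 1, 1, 0, -1, -1, 0, 0, 0, 1, 0, 1, 0],
    ![-1, 0, 0, 1, 0, 1, 1, 1, 0, -1, 0, 0, 0, -1, -1],
    ![-1, 1, 1, 0, -1, -1, 0, 0, 0, -1, 0, 1, 0, 0, 1],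
    ![0, -1, 0, 0, 1, -1, 1, 1, 1, 0, -1, 0, 0, 0, -1],
    ![-1, -1, 1, 1, 0, -1, -1, 0, 0, 0, 1, 0, 1, 0, 0],
    ![0, 0, 1, 0, -1, 1, 1, 0, -1, 1, 0, 0, -1, -1, 0],
    ![-1, 0, 0, 0, -1, 1, 0, -1, 0, 0, 1, 1, 1, -1, 0],
    ![0, 1, -1, 0, 0, 0, 0, 1, 0, -1, -1, 0, 1, 1, -1],
    ![0, 1, 0, 1, 0, -1, 0, -1, 1, -1, 0, 1, -1, 0, 0],
    ![0, 0, 0, 1, -1, 0, -1, 0, 0, 1, 1, -1, 1, 0, -1],
    ![1, 0, -1, 0, 0, 0, -1, 1, 1, 1, -1, -1, 0, 0, 0],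
    ![0, 0, 1, -1, 0, -1, 0, 0, 1, 0, -1, -1, 0, 1, 1]]

/-- the coefficients -/
def CC : Fin 15 → Fin 14 → ℤ :=
  ![![0, 0, 0, 0, 0, 0, 0, 0, 0, 0, 0, 0, 0, 0],
    ![-1, 1, -1, -1, 1, -1, 1, 1, -1, 0, -1, 1, 1, -1],
    ![-1, -1, -1, -1, -1, -1, 1, 0, 0, 1, 0, -1, -1, 0],
    ![0, -1, 1, 1, -1, 0, 1, -1, -1, -1, -1, -1, -1, 0],
    ![-1, 1, -1, -1, 0, -1, -1, 1, -1, 0, -1, 0, 1, -1],
    ![-1, -1, 0, 0, 0, -1, -1, -1, 0, 0, -1, 0, -1, 0],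
    ![0, -1, 1, 1, 0, 1, -1, 1, -1, 1, 1, 0, 1, 0],
    ![-1, -1, 0, 0, -1, 0, 1, 1, -1, -1, 1, 1, -1, -1],
    ![-1, -1, 0, 0, 1, 0, 1, 1, 0, -1, -1, 1, -1, 0],
    ![-1, 1, 0, -1, -1, 0, 0, 1, -1, -1, 1, -1, 1, -1],
    ![-1, -1, 0, 0, -1, 0, 0, 0, -1, 1, 1, -1, 1, -1],
    ![-1, -1, 0, -1, 1, 0, -1, -1, 0, 0, -1, 0, -1, -1],
    ![0, -1, 0, 0, 1, 0, -1, -1, 0, 0, -1, 1, -1, 0],
    ![-1, -1, 1, 0, -1, 0, 0, 1, -1, -1, 1, -1, 1, 0],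
    ![0, -1, 1, 1, 0, 0, 0, 1, -1, 1, 1, -1, -1, 0]]

theorem bas_pw : ∀ k i, bas k (pw (ws k) i) = w i := by decide +kernel

theorem bas_ivw : ∀ k i, w (pw (ivw (ws k)) i) = bas k i := by decide +kernel

theorem c_bas : ∀ j i, ((∑ k, CC j k * bas k i) - ((if i = 0 then 1 else 0) - (if i = j then 1 else 0))) % 3 = 0 := by
  decide +kernel

/-- 2-transitivity -/
def tab : Fin 15 → Fin 15 → List (Fin 4) :=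
  ![![[], [], [2, 0, 2, 1], [3, 0, 0, 3], [0, 2, 0, 3], [3, 1, 1, 2, 1], [2, 0, 3, 0, 3], [3, 0, 3, 1], [3, 1, 1, 3, 1, 2], [2, 1, 3, 1], [3, 1, 3, 0, 0], [2, 1, 2, 1, 3], [2, 1, 1, 2], [2, 0, 3, 1, 2], [0, 3, 0, 0, 2]],
    ![[3, 1, 3, 0], [], [0], [0, 2, 0, 2, 1], [0, 3, 0, 0, 3], [0, 2, 1, 3, 1], [1, 3, 1, 1, 3, 0], [1, 1, 2, 0, 3, 0], [0, 3, 0, 3, 1], [1, 3, 0, 2, 1, 1], [3, 0, 3, 0, 2], [2, 0, 2, 0], [3, 0, 3, 1, 1, 3], [0, 2, 1, 1, 2], [2, 0, 3, 0, 2, 0]],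
    ![[1, 2, 0, 0, 2, 0], [2, 0, 2], [], [0, 0], [2, 1, 2, 1], [3, 0, 2, 1, 1], [2, 1, 1, 3], [3, 1, 1, 3, 0], [1, 2, 0, 3, 0], [1, 1, 2, 1, 2], [2, 1, 3, 1, 2], [2, 0, 3, 0, 2, 1], [0, 2, 0, 2, 0], [2, 1, 3, 0, 0, 2, 1], [3, 0, 0, 3, 1, 1]],
    ![[1, 3, 1, 3], [2, 0, 0, 2, 0], [0, 2, 0, 2], [], [1, 1], [1, 2, 1, 2], [0, 3, 0, 2, 1, 1], [0, 2, 1, 1, 3], [0, 3, 1, 1, 3, 0], [2, 0, 3, 0], [1, 1, 2, 1, 1, 2], [0, 2, 1, 3, 1, 2], [1, 3, 0, 0, 2], [3, 1, 2, 0, 0], [3, 1, 3, 1, 2, 1]],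
    ![[1], [3, 1, 3], [1, 3, 0, 0, 3], [2, 0, 3], [], [0, 2, 0, 3, 0], [2, 1, 2], [2, 0, 0, 3, 1, 2], [1, 2, 1, 3, 1], [2, 0, 0, 2, 1], [3, 1, 2, 0, 0, 3], [1, 2, 1, 1, 2], [2, 1, 3, 0, 2, 1], [3, 0, 0, 2], [3, 1, 1, 3, 1]],
    ![[1, 1, 3, 1, 2], [3, 1, 2, 1, 3], [3, 0, 3, 0, 3], [3, 1, 1, 2], [3, 1, 3, 1], [], [3, 1, 2, 0, 0, 2], [2, 0, 2, 0, 3], [1, 1, 2, 1], [0, 3, 1], [2], [1, 3, 0, 0], [0, 2, 1, 3], [0, 0, 3], [3, 0, 2, 1]],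
    ![[2, 0, 2, 1, 1], [1, 3, 1, 2], [2, 0, 0, 3, 1, 1], [1, 3, 0, 0, 2, 1], [2, 1, 1, 3, 0], [0, 0, 3, 1], [], [3, 1, 1, 2, 1, 2], [0, 2, 0, 2, 0, 3], [1, 2, 1], [0, 3, 0, 2, 1], [0, 2], [3, 0, 0], [0, 0, 2, 1, 3], [1, 1, 3]],
    ![[1, 2, 1, 3, 0, 0], [3, 1, 1, 3, 0, 0], [3, 1, 2], [1, 2, 0, 3, 1], [3, 0, 0, 2, 1], [2, 1], [1, 1, 3, 1], [], [2, 0, 2, 0, 3, 0], [3, 0, 0, 3, 1, 2], [1, 3], [1, 2, 0, 0, 3], [0, 0, 2], [3, 0, 3], [1, 1, 2, 1, 3]],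
    ![[2, 1, 1, 2, 1], [2, 1, 3, 0, 0], [1, 2, 0, 0, 2], [0, 3, 1, 2], [2, 0, 3, 1], [2, 1, 1, 3, 1, 2], [0, 2, 1], [1, 3, 1], [], [3, 0, 2, 0, 3], [1, 2, 1, 3], [3], [2, 0, 0, 3], [1, 1, 2], [0, 3, 0, 3]],
    ![[0, 2, 0, 3, 1], [0, 2, 1, 1, 2, 1], [2, 1, 1, 3, 1], [2, 0, 0, 2], [0, 0, 3, 1, 2], [3, 1, 2, 1, 3, 1], [3, 1, 3, 0, 0, 3], [0, 0, 2, 1], [3, 1], [], [1, 1, 3, 0, 0], [2, 1, 3], [0, 3], [1, 3, 0, 2, 1], [1, 2]],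
    ![[3, 1, 1, 2, 1, 1], [3, 0, 2, 0], [2, 1, 3, 1, 1, 3, 0], [0, 3, 1, 1, 3], [0, 2, 0, 2, 0, 2, 0], [1, 3, 0], [3, 0, 3, 0, 2, 0], [1, 2, 1, 3, 0], [0, 3, 1, 2, 1], [0, 0, 2, 1, 1], [], [0, 3, 0, 2], [2, 0, 2, 1, 1, 2], [2, 0, 2, 0, 2, 1], [2, 0]],
    ![[2, 0, 3, 1, 2, 1], [2, 0, 3, 0, 2], [0, 3, 0, 2, 0], [3, 0, 2, 1, 1, 2], [1, 2, 0, 0, 3, 0], [1, 1, 2, 1, 1], [3, 0], [1, 2, 0, 3, 1, 1], [2, 1, 3, 0], [2, 1, 2, 1, 3, 0], [0, 2, 0], [], [0, 0, 3, 0, 2], [2, 0, 3, 1, 1, 3], [3, 1, 3, 1, 1, 3, 0]],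
    ![[2, 0, 0, 3, 0], [0, 2, 0, 3, 1, 2, 1], [2, 1, 3, 1, 2, 1], [2, 1, 2, 0, 0], [3, 0, 2, 1, 1, 3], [1, 1, 3, 1, 2, 1], [1, 2, 1, 1], [0, 3, 0], [2, 0, 3, 1, 1], [3, 1, 1], [2, 1, 3, 1, 1, 3], [0, 0, 2, 0], [], [1, 1, 3, 0, 2], [1, 3, 0, 0, 2, 0]],
    ![[2, 0, 3, 1, 1, 3, 0], [1, 3, 1, 1, 3], [3, 1, 3, 0, 0, 2, 0], [2, 1, 3, 0, 0, 2], [3, 0, 3, 0], [0, 3, 1, 1], [1, 3, 1, 2, 1], [2, 1, 1], [0, 0, 3, 0], [0, 2, 0, 3, 1, 1], [3, 0, 0, 2, 0], [2, 1, 1, 2, 1, 1, 2], [1, 2, 0, 0], [], [1, 3, 0, 2]],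
    ![[1, 3, 0, 2, 0], [3, 0, 3, 0, 2, 1], [3, 1, 1, 3], [2, 0, 2, 0, 2, 0], [2, 1, 1, 2, 1, 2], [2, 1, 2, 0, 0, 2, 0], [0, 0, 3, 1, 1], [3, 1, 2, 1], [0, 2, 1, 1], [1, 1, 3, 0], [3, 0, 2], [3, 1, 3, 1, 2], [3, 1, 3, 0, 0, 2, 1], [2, 0, 0], []]]

theorem tab_pw : ∀ i j, i ≠ j → pw (tab i j) 0 = i ∧ pw (tab i j) 1 = j := by decide +kernel

/-- `a7`, `b7` generate `A₇` -/
theorem gen_ab : Subgroup.closure {a7, b7} = ⊤ := by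
  rw [eq_top_iff]
  intro σ _
  have h1 : (σ : Perm (Fin 7)) ∈ Subgroup.closure {(a7 : Perm (Fin 7)), (b7 : Perm (Fin 7))} := by
    refine Cfsg.Agent.H952.F4.Gen.mem_of_star (n := 5) _ ?_ ?_ σ.2
    · rw [Subgroup.closure_le]
      rintro z (rfl | rfl)
      · exact a7.2
      · exact b7.2
    · have h : ∀ k : Fin 7, k ≠ 0 → evw (a7 : Perm (Fin 7)) (b7 : Perm (Fin 7)) ((
          ![[],
    [],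
    [1, 2, 1, 3, 0, 0, 2, 1, 3],
    [0, 2, 0, 3, 0, 0, 2, 0, 0, 3, 1],
    [2, 0, 3, 0, 2, 1, 1, 3],
    [0, 2, 0, 3, 1, 1],
    [0, 3, 0, 2, 1, 1]] : Fin 7 → List (Fin 4)) k) =
          swap 0 1 * swap 0 k := by decide +kernel
      intro k hk
      have h2 := h k hk
      show swap (0 : Fin 7) 1 * swap 0 k ∈ _
      rw [← h2]
      exact evw_mem (Subgroup.subset_closure (by simp)) (Subgroup.subset_closure (by simp)) _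
  have h2 : (Subgroup.closure {a7, b7}).map (alternatingGroup (Fin 7)).subtype =
      Subgroup.closure {(a7 : Perm (Fin 7)), (b7 : Perm (Fin 7))} := by
    rw [MonoidHom.map_closure, Set.image_pair]
    rfl
  rw [← h2] at h1
  obtain ⟨τ, hτ, h3⟩ := h1
  rwa [← Subtype.ext h3]

end Cfsg.Agent.R2.T1.N7.PB
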