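import Cfsg.Agent.R2.T1.N7.PB.Act
import Cfsg.Agent.H952.F4.Defs

/-!
# S5929, `n = 7`, `p = 3`, lift, pattern B: the isotropic subspace (helper7)

* `form_const` : the form is constant on the translates of two fixed vectors;
* `count` : `24 + 24 + dim W^{a7} ≤ dim W` if the `L₂(7)`-fixed space has dimension at least two.
-/

set_option autoImplicit false

namespace Cfsg.Agent.R2.T1.N7.PB

open Module
open Cfsg.Agent.H952.F4 (ev)

universe u v

section perp
variable {F : Type u} [Field F] {W : Type v} [AddCommGroup W] [Module F W] [FiniteDimensional F W]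

theorem perp_le {B : W →ₗ[F] W →ₗ[F] F} (hB : ∀ x, (∀ y, B x y = 0) → x = 0) {U U' : Submodule F W}
    (h : ∀ x ∈ U, ∀ y ∈ U', B x y = 0) : finrank F ↥U + finrank F ↥U' ≤ finrank F W := by
  have h1 : Function.Injective B := by
    rw [← LinearMap.ker_eq_bot, LinearMap.ker_eq_bot']
    intro x hx
    exact hB x fun y => by rw [hx]; rfl
  have h2 : U.map B ≤ U'.dualAnnihilator := by
    rintro _ ⟨x, hx, rfl⟩
    rw [Submodule.mem_dualAnnihilator]
    intro y hy
    exact h x hx y hy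
  have h3 := Submodule.finrank_mono h2
  have h4 := Subspace.finrank_add_finrank_dualAnnihilator_eq U'
  have h5 : finrank F ↥U = finrank F ↥(U.map B) := (Submodule.equivMapOfInjective B h1 U).finrank_eq
  have h6 : finrank F ↥U ≤ finrank F ↥U'.dualAnnihilator := by
    rw [h5]
    exact h3
  calc finrank F ↥U + finrank F ↥U' ≤ finrank F ↥U'.dualAnnihilator + finrank F ↥U' := Nat.add_le_add_right h6 _
    _ = finrank F W := by rw [add_comm]; exact h4

end perp

/-- the orbits of `a7` -/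
def idx (a : Fin 3) (b : Fin 5) : Fin 15 := ⟨5 * a.1 + b.1, by omega⟩

theorem idx_bij : Function.Bijective (fun p : Fin 3 × Fin 5 => idx p.1 p.2) := by decide +kernel

theorem sum_idx {M : Type v} [AddCommMonoid M] (f : Fin 15 → M) : ∑ i, f i = ∑ a, ∑ b, f (idx a b) := by
  rw [← Fintype.sum_prod_type' (fun a b => f (idx a b))]
  exact (idx_bij.sum_comp f).symm

theorem ft_idx : ∀ a b, ft 0 (idx a b) = idx a (b + 1) := by decide +kernel

theorem pow_tt : ∀ (a : Fin 3) (b t : Fin 5), a7 ^ t.1 * tt (idx a b) = tt (idx a (b + t)) := by decide +kernel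

section form
variable {F : Type u} [Field F] {W : Type v} [AddCommGroup W] [Module F W] {ρ : Representation F A7 W}
  {B : W →ₗ[F] W →ₗ[F] F}

theorem sum_zero (h0 : Representation.invariants ρ = ⊥) {m : W} (h : Fx ρ m) : ∑ i, ρ (tt i) m = 0 := by
  refine zero_of_fix h0 ?_ ?_
  · rw [map_sum, ← sum_pw [0] fun i => ρ (tt i) m]
    exact Finset.sum_congr rfl fun i _ => act1 h 0 i
  · rw [map_sum, ← sum_pw [2] fun i => ρ (tt i) m]
    exact Finset.sum_congr rfl fun i _ => act1 h 2 i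

/-- **the form is constant on the translates** -/
theorem form_const (h3 : (3 : F) = 0) (h0 : Representation.invariants ρ = ⊥)
    (hG : ∀ g x y, B (ρ g x) (ρ g y) = B x y) {m m' : W} (h : Fx ρ m) (h' : Fx ρ m') (i j : Fin 15) :
    B (ρ (tt i) m) (ρ (tt j) m') = B (ρ (tt 0) m) (ρ (tt 1) m') := by
  have e1 : ∀ i j, i ≠ j → B (ρ (tt i) m) (ρ (tt j) m') = B (ρ (tt 0) m) (ρ (tt 1) m') := by
    intro i j hij
    obtain ⟨h1, h2⟩ := tab_pw i j hij
    have h5 := hG (PB.evw a7 b7 (tab i j)) (ρ (tt 0) m) (ρ (tt 1) m')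
    rw [act h, act h', h1, h2] at h5
    exact h5
  by_cases hij : i = j
  · subst hij
    have e2 : ∑ j, (B (ρ (tt i) m) (ρ (tt j) m') - B (ρ (tt 0) m) (ρ (tt 1) m')) =
        B (ρ (tt i) m) (ρ (tt i) m') - B (ρ (tt 0) m) (ρ (tt 1) m') := by
      refine Finset.sum_eq_single i (fun j _ hj => ?_) (fun h => absurd (Finset.mem_univ _) h)
      rw [e1 i j hj.symm, sub_self]
    rw [Finset.sum_sub_distrib, ← map_sum, sum_zero h0 h', map_zero, Finset.sum_const, Finset.card_univ,
      Fintype.card_fin, nsmul_eq_mul] at e2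
    push_cast at e2
    linear_combination -e2 - 5 * B (ρ (tt 0) m) (ρ (tt 1) m') * h3
  · exact e1 i j hij

theorem iso (h3 : (3 : F) = 0) (h0 : Representation.invariants ρ = ⊥)
    (hG : ∀ g x y, B (ρ g x) (ρ g y) = B x y) {m m' : W} (h : Fx ρ m) (h' : Fx ρ m') {f g : Fin 15 → F}
    (hf : ∑ i, f i = 0) : B (∑ i, f i • ρ (tt i) m) (∑ i, g i • ρ (tt i) m') = 0 := by
  rw [map_sum, map_sum]
  refine Finset.sum_eq_zero fun j _ => ?_
  rw [LinearMap.sum_apply]
  have e : ∀ i, B (f i • ρ (tt i) m) (g j • ρ (tt j) m') = f i * (g j * B (ρ (tt 0) m) (ρ (tt 1) m')) := by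
    intro i
    rw [map_smul, map_smul, LinearMap.smul_apply, form_const h3 h0 hG h h', smul_eq_mul, smul_eq_mul]
    ring
  rw [Finset.sum_congr rfl fun i _ => e i, ← Finset.sum_mul, hf, zero_mul]

variable (F) in
/-- the orbit sums -/
def O : (Fin 15 → F) →ₗ[F] (Fin 3 → F) where
  toFun f := fun a => ∑ b, f (idx a b)
  map_add' f g := by
    funext a
    exact Finset.sum_add_distrib
  map_smul' c f := by
    funext a
    show ∑ b, c * f (idx a b) = c * ∑ b, f (idx a b)
    rw [Finset.mul_sum]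

theorem O_apply (f : Fin 15 → F) (a : Fin 3) : O F f a = ∑ b, f (idx a b) := rfl

theorem sum_of_O {f : Fin 15 → F} (h : O F f = 0) : ∑ i, f i = 0 := by
  rw [sum_idx]
  exact Finset.sum_eq_zero fun a _ => congrFun h a

/-- orthogonal to the fixed vectors of `a7` -/
theorem iso_fix (hG : ∀ g x y, B (ρ g x) (ρ g y) = B x y) {m v : W} (h : Fx ρ m) (hv : ρ a7 v = v)
    {f : Fin 15 → F} (hf : O F f = 0) : B (∑ i, f i • ρ (tt i) m) v = 0 := by
  have e1 : ∀ a b, B (ρ (tt (idx a (b + 1))) m) v = B (ρ (tt (idx a b)) m) v := by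
    intro a b
    have h1 := hG a7 (ρ (tt (idx a b)) m) v
    have h2 : ρ a7 (ρ (tt (idx a b)) m) = ρ (tt (ft 0 (idx a b))) m := act1 h 0 _
    rw [h2, hv, ft_idx] at h1
    exact h1
  have e2 : ∀ a b, B (ρ (tt (idx a b)) m) v = B (ρ (tt (idx a 0)) m) v := by
    intro a b
    fin_cases b
    · rfl
    · exact e1 a 0
    · exact (e1 a 1).trans (e1 a 0)
    · exact (e1 a 2).trans ((e1 a 1).trans (e1 a 0))
    · exact (e1 a 3).trans ((e1 a 2).trans ((e1 a 1).trans (e1 a 0)))
  rw [map_sum, LinearMap.sum_apply, sum_idx]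
  refine Finset.sum_eq_zero fun a _ => ?_
  have e3 : ∀ b, B (f (idx a b) • ρ (tt (idx a b)) m) v = f (idx a b) * B (ρ (tt (idx a 0)) m) v := by
    intro b
    rw [map_smul, LinearMap.smul_apply, e2, smul_eq_mul]
  rw [Finset.sum_congr rfl fun b _ => e3 b, ← Finset.sum_mul, ← O_apply, hf, Pi.zero_apply, zero_mul]

/-- the trace of `a7` kills the combinations with vanishing orbit sums -/
theorem tr_zero {m : W} {f : Fin 15 → F} (hf : O F f = 0) :
    ∑ t : Fin 5, ρ (a7 ^ t.1) (∑ i, f i • ρ (tt i) m) = 0 := by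
  have e1 : ∀ t : Fin 5, ρ (a7 ^ t.1) (∑ i, f i • ρ (tt i) m) = ∑ a, ∑ b, f (idx a b) • ρ (tt (idx a (b + t))) m := by
    intro t
    rw [map_sum, sum_idx]
    refine Finset.sum_congr rfl fun a _ => Finset.sum_congr rfl fun b _ => ?_
    rw [map_smul, ← rho_mul, pow_tt]
  rw [Finset.sum_congr rfl fun t _ => e1 t, Finset.sum_comm]
  refine Finset.sum_eq_zero fun a _ => ?_
  rw [Finset.sum_comm]
  have e2 : ∀ b, ∑ t, f (idx a b) • ρ (tt (idx a (b + t))) m = f (idx a b) • ∑ t, ρ (tt (idx a t)) m := by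
    intro b
    rw [← Finset.smul_sum]
    congr 1
    exact Fintype.sum_equiv (Equiv.addLeft b) _ _ fun t => rfl
  rw [Finset.sum_congr rfl fun b _ => e2 b, ← Finset.sum_smul, ← O_apply, hf, Pi.zero_apply, zero_smul]

theorem five_ne (h3 : (3 : F) = 0) : (5 : F) ≠ 0 := by
  intro h5
  have : (1 : F) = 0 := by linear_combination 2 * h3 - h5
  exact one_ne_zero this

variable (ρ) in
/-- the map on pairs -/
noncomputable def Ph (m m' : W) : (Fin 15 → F) × (Fin 15 → F) →ₗ[F] W :=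
  (Fintype.linearCombination F fun i => ρ (tt i) m).coprod (Fintype.linearCombination F fun i => ρ (tt i) m')

theorem Ph_apply (m m' : W) (f : (Fin 15 → F) × (Fin 15 → F)) :
    Ph ρ m m' f = ∑ i, f.1 i • ρ (tt i) m + ∑ i, f.2 i • ρ (tt i) m' := by
  unfold Ph
  rw [LinearMap.coprod_apply, Fintype.linearCombination_apply, Fintype.linearCombination_apply]

theorem zero_of_const (h3 : (3 : F) = 0) {f : Fin 15 → F} (hc : ∀ j, f j = f 0) (hf : O F f = 0) : f = 0 := by
  have h1 := congrFun hf 0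
  rw [O_apply, Finset.sum_congr rfl fun b _ => hc _, Finset.sum_const, Finset.card_univ, Fintype.card_fin,
    nsmul_eq_mul] at h1
  have h2 : f 0 = 0 := (mul_eq_zero.1 h1).resolve_left (by exact_mod_cast five_ne h3)
  funext j
  rw [hc j, h2]
  rfl

variable (F) in
/-- the pairs with vanishing orbit sums -/
def KO : Submodule F ((Fin 15 → F) × (Fin 15 → F)) := LinearMap.ker ((O F).prodMap (O F))

theorem mem_KO {f : (Fin 15 → F) × (Fin 15 → F)} : f ∈ KO F ↔ O F f.1 = 0 ∧ O F f.2 = 0 := by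
  unfold KO
  rw [LinearMap.mem_ker]
  exact Prod.ext_iff

theorem finrank_KO : 24 ≤ finrank F ↥(KO F) := by
  have h1 := LinearMap.finrank_range_add_finrank_ker ((O F).prodMap (O F))
  have h2 := Submodule.finrank_le (LinearMap.range ((O F).prodMap (O F)))
  rw [Module.finrank_prod, Module.finrank_fin_fun] at h1 h2
  unfold KO
  omega

variable [FiniteDimensional F W]

/-- **the count** -/
theorem count (h3 : (3 : F) = 0) (h0 : Representation.invariants ρ = ⊥) (hB : ∀ x, (∀ y, B x y = 0) → x = 0)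
    (hG : ∀ g x y, B (ρ g x) (ρ g y) = B x y) {m m' : W} (h : Fx ρ m) (h' : Fx ρ m')
    (hi : ∀ a b : F, a • m + b • m' = 0 → a = 0 ∧ b = 0) : 24 + 24 + ev (ρ a7) 1 ≤ finrank F W := by
  set Ψ := (Ph ρ m m').comp (KO F).subtype with hΨ
  have hΨa : ∀ f : ↥(KO F), Ψ f = ∑ i, f.1.1 i • ρ (tt i) m + ∑ i, f.1.2 i • ρ (tt i) m' := fun f => Ph_apply _ _ _
  have e1 : Function.Injective Ψ := by
    rw [← LinearMap.ker_eq_bot, LinearMap.ker_eq_bot']
    intro f hf
    rw [hΨa] at hf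
    obtain ⟨k1, k2⟩ := mem_KO.1 f.2
    obtain ⟨c1, c2⟩ := rel_const h3 h0 h h' hi hf
    exact Subtype.ext (Prod.ext (zero_of_const h3 c1 k1) (zero_of_const h3 c2 k2))
  have e2 : finrank F ↥(LinearMap.range Ψ) = finrank F ↥(KO F) := LinearMap.finrank_range_of_inj e1
  have e3 := finrank_KO (F := F)
  -- the intersection with the fixed space
  have e4 : LinearMap.range Ψ ⊓ Module.End.eigenspace (ρ a7) 1 = ⊥ := by
    rw [eq_bot_iff]
    rintro v ⟨⟨f, rfl⟩, hv⟩
    have hv' : ρ a7 (Ψ f) = Ψ f := by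
      have := Module.End.mem_eigenspace_iff.1 hv
      rwa [one_smul] at this
    have h1 : ∀ t : ℕ, ρ (a7 ^ t) (Ψ f) = Ψ f := by
      intro t
      induction t with
      | zero => rw [pow_zero, map_one]; rfl
      | succ t ih => rw [pow_succ, rho_mul, hv', ih]
    have h2 : ∑ t : Fin 5, ρ (a7 ^ t.1) (Ψ f) = 0 := by
      have h5 : ∀ t : Fin 5, ρ (a7 ^ t.1) (Ψ f) = ρ (a7 ^ t.1) (∑ i, f.1.1 i • ρ (tt i) m) +
          ρ (a7 ^ t.1) (∑ i, f.1.2 i • ρ (tt i) m') := fun t => by rw [hΨa, map_add]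
      rw [Finset.sum_congr rfl fun t _ => h5 t, Finset.sum_add_distrib, tr_zero (mem_KO.1 f.2).1,
        tr_zero (mem_KO.1 f.2).2, add_zero]
    rw [Finset.sum_congr rfl fun t _ => h1 _, Finset.sum_const, Finset.card_univ, Fintype.card_fin] at h2
    have h6 : (5 : F) • Ψ f = 0 := by
      rw [← h2, ← Nat.cast_smul_eq_nsmul F]
      norm_num
    exact (Submodule.mem_bot F).2 ((smul_eq_zero.1 h6).resolve_left (five_ne h3))
  have e5 := Submodule.finrank_sup_add_finrank_inf_eq (LinearMap.range Ψ) (Module.End.eigenspace (ρ a7) 1)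
  rw [e4, finrank_bot, add_zero] at e5
  have e6 : ∀ x ∈ LinearMap.range Ψ, ∀ y ∈ LinearMap.range Ψ ⊔ Module.End.eigenspace (ρ a7) 1, B x y = 0 := by
    rintro x ⟨f, rfl⟩ y hy
    obtain ⟨y1, ⟨g, rfl⟩, y2, hy2, rfl⟩ := Submodule.mem_sup.1 hy
    have hv : ρ a7 y2 = y2 := by
      have := Module.End.mem_eigenspace_iff.1 hy2
      rwa [one_smul] at this
    have k := mem_KO.1 f.2
    rw [map_add, hΨa, hΨa]
    simp only [map_add, LinearMap.add_apply]
    rw [iso h3 h0 hG h h (sum_of_O k.1), iso h3 h0 hG h h' (sum_of_O k.1), iso h3 h0 hG h' h (sum_of_O k.2),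
      iso h3 h0 hG h' h' (sum_of_O k.2), iso_fix hG h hv k.1, iso_fix hG h' hv k.2]
    ring
  have e7 := perp_le hB e6
  have e8 : ev (ρ a7) 1 = finrank F ↥(Module.End.eigenspace (ρ a7) 1) := rfl
  rw [e5, e2] at e7
  omega

end form

end Cfsg.Agent.R2.T1.N7.PB
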